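import Cfsg.Agent.Lib.Schur.Th.Glue
import Cfsg.Agent.Lib.Sporadic.ThIndex.Embed

/-!
# The multiplier of the presented Thompson group
-/

set_option autoImplicit false
set_option maxRecDepth 100000

namespace CfsgLib.Schur.Sporadic.ThCover

open CfsgLib.Sporadic.ONTriple Cfsg.Spor

/-- The basic letter of a letter. -/
def toBasic (x : ℕ) : ℕ := [0, 0, 1, 1, 2, 2, 3, 3, 4, 4, 5, 6, 7, 8].getD x 0

/-- The generator with a position. -/
def g7Of : Fin 7 → CfsgLib.Sporadic.ThIndex.G7 := ![.a, .b, .c, .d, .e, .s, .t]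

theorem relW_source : ∀ L ∈ CfsgLib.Sporadic.ThIndex.relW, ∃ i < 27,
    redW ivTwo ((relWord i).map collapse) =
      redW ivTwo (L.map fun c => [0, 1, 2, 3, 4, 5, 6, 7, 8].getD c 0) := by
  decide +kernel

theorem hasMultiplier :
    Cfsg.HasCyclicSchurMultiplier Th 1 := by
  have : Finite Th := CfsgLib.Sporadic.ThIndex.finite_ThG
  refine hasMultiplier_of (fun j => CfsgLib.Sporadic.ThIndex.gen (g7Of j)) ?_
    CfsgLib.Sporadic.ThIndex.h0Hom ?_ CfsgLib.Sporadic.ThIndex.h0Hom_injective ?_
  · refine eq_top_iff.2 (CfsgLib.Sporadic.ThIndex.closure_gen ▸ Subgroup.closure_mono ?_)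
    rintro - ⟨x, rfl⟩
    cases x
    exacts [⟨0, rfl⟩, ⟨1, rfl⟩, ⟨2, rfl⟩, ⟨3, rfl⟩, ⟨4, rfl⟩, ⟨5, rfl⟩, ⟨6, rfl⟩]
  · intro j
    show CfsgLib.Sporadic.ThIndex.homOf _ _ _ = _
    rw [CfsgLib.Sporadic.ThIndex.homOf_gen]
    fin_cases j <;> rfl
  · intro Γ _ v hv hrel
    have sq : ∀ j < 5, v (2 * j + 1) = v (2 * j) := by
      intro j hj
      have h := hrel j (by omega)
      have e : relWord j = [2 * j, 2 * j] := by interval_cases j <;> rfl
      rw [e, ev_cons, ev_cons, ev_nil, mul_one] at h
      have h2 := hv (2 * j) (by omega)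
      rw [flip, if_pos (by omega), inv_eq_of_mul_eq_one_right h] at h2
      exact h2
    let g : CfsgLib.Sporadic.ThIndex.G7 → Γ := fun x =>
      match x with
      | .a => v 0 | .b => v 2 | .c => v 4 | .d => v 6 | .e => v 8 | .s => v 10 | .t => v 12
    have hcol : ∀ x < 14, v (repTwo (collapse x)) = v x := by
      intro x hx
      interval_cases x <;> first
        | rfl
        | exact (sq 0 (by norm_num)).symm
        | exact (sq 1 (by norm_num)).symm
        | exact (sq 2 (by norm_num)).symm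
        | exact (sq 3 (by norm_num)).symm
        | exact (sq 4 (by norm_num)).symm
    have hinv : ∀ x < 9, v (repTwo (ivTwo x)) = (v (repTwo x))⁻¹ := by
      intro x hx
      interval_cases x
      · exact (sq 0 (by norm_num)).symm.trans (hv 0 (by norm_num))
      · exact (sq 1 (by norm_num)).symm.trans (hv 2 (by norm_num))
      · exact (sq 2 (by norm_num)).symm.trans (hv 4 (by norm_num))
      · exact (sq 3 (by norm_num)).symm.trans (hv 6 (by norm_num))
      · exact (sq 4 (by norm_num)).symm.trans (hv 8 (by norm_num))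
      · exact hv 10 (by norm_num)
      · exact hv 11 (by norm_num)
      · exact hv 12 (by norm_num)
      · exact hv 13 (by norm_num)
    have hlet : ∀ c < 9, CfsgLib.Sporadic.ThIndex.letG g c = v (repTwo c) := by
      intro c hc
      interval_cases c <;> first
        | rfl
        | exact (hv 10 (by norm_num)).symm
        | exact (hv 12 (by norm_num)).symm
    refine ⟨CfsgLib.Sporadic.ThIndex.homOf g fun L hL => ?_, fun j => ?_⟩
    · obtain ⟨i, hi, he⟩ := relW_source L hL
      have hL9 : ∀ c ∈ L, c < 9 := (by decide +kernel :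
        ∀ L ∈ CfsgLib.Sporadic.ThIndex.relW, ∀ c ∈ L, c < 9) L hL
      have hi14 : ∀ x ∈ relWord i, x < 14 :=
        (by decide +kernel : ∀ i < 27, ∀ x ∈ relWord i, x < 14) i hi
      have hc9 : ∀ x < 14, collapse x < 9 := by decide
      have hid : ∀ c < 9, [0, 1, 2, 3, 4, 5, 6, 7, 8].getD c 0 = c := by decide
      have h := congrArg (ev fun x => v (repTwo x)) he
      rw [ev_redW (fun x hx => hinv x (by
          obtain ⟨y, hy, rfl⟩ := List.mem_map.1 hx; exact hc9 y (hi14 y hy))),
        ev_redW (fun x hx => hinv x (by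
          obtain ⟨y, hy, rfl⟩ := List.mem_map.1 hx; rw [hid y (hL9 y hy)]; exact hL9 y hy)),
        ev_map, ev_map, ev_congr (f' := v) fun x hx => hcol x (hi14 x hx), hrel i hi] at h
      rw [h]
      show ev (CfsgLib.Sporadic.ThIndex.letG g) L = _
      exact ev_congr fun c hc => by rw [hlet c (hL9 c hc), hid c (hL9 c hc)]
    · rw [CfsgLib.Sporadic.ThIndex.homOf_gen]
      fin_cases j <;> rfl

end CfsgLib.Schur.Sporadic.ThCover
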