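import Cfsg.Agent.Lib.Schur.Th.Main

/-!
# The multiplier of the presented Thompson group from a model of the subgroup of the first relators

Any group `H` with seven generators that maps to every solution of the first three groups of
relators, and injectively to the presented Thompson group, forces every stem extension to split.
-/

namespace CfsgLib.Schur.Sporadic.ThCover

open CfsgLib.Sporadic.ONTriple Cfsg.Spor

theorem hasMultiplier_of [Finite Th] {H : Type} [Group H] (gen : Fin 7 → H)
    (hgen : Subgroup.closure (Set.range gen) = ⊤) (h : H →* Th)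
    (hh : ∀ j, h (gen j) = thLetter (2 * j.1)) (hinj : Function.Injective h)
    (hlift : ∀ (Γ : Type) [Group Γ] (v : ℕ → Γ), (∀ x < 16, v (flip x) = (v x)⁻¹) →
      (∀ i < 27, ev v (relWord i) = 1) → ∃ φ : H →* Γ, ∀ j, φ (gen j) = v (2 * j.1)) :
    Cfsg.HasCyclicSchurMultiplier Th 1 := by
  refine Basic.hasCyclicSchurMultiplier_one_of fun Γ _ _ σ hσ => ker_eq_bot_of hσ ?_
  intro v hv hrel g hg hσg
  obtain ⟨φ, hφ⟩ := hlift Γ v hv.inv hrel
  have hcomp : σ.comp φ = h := MonoidHom.eq_of_eqOn_dense hgen (by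
    rintro - ⟨j, rfl⟩
    rw [MonoidHom.comp_apply, hφ, hv.img _ (by omega), hh])
  have hle : gensClosure v hGens ≤ φ.range := by
    rw [gensClosure, Subgroup.closure_le]
    rintro - ⟨w, hw, rfl⟩
    have hex : ∃ j : Fin 7, w = [2 * j.1] :=
      (by decide : ∀ w ∈ hGens, ∃ j : Fin 7, w = [2 * j.1]) w hw
    obtain ⟨j, rfl⟩ := hex
    exact ⟨gen j, by rw [hφ, ev_cons, ev_nil, mul_one]⟩
  obtain ⟨x, rfl⟩ := hle hg
  have hx : h x = h 1 := by rw [← hcomp, MonoidHom.comp_apply, hσg, map_one]
  rw [hinj hx, map_one]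

end CfsgLib.Schur.Sporadic.ThCover
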