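import Cfsg.Agent.Lib.Sporadic.ONTriple.Apply

/-!
# Killing the defects of relators in a central extension with coset certificates

The relators of a certificate are words already known to have value one, together with the
commutators of the central defects with the letters.  A traced word has its value in the subgroup
of the further words; when that subgroup meets the kernel trivially the defect is one.
-/

namespace CfsgLib.Schur.Sporadic.ThCover

open CfsgLib.Sporadic.CosetCert CfsgLib.Sporadic.ONTriple

variable {Γ : Type*} [Group Γ]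

/-- Put a letter in front, cancelling with the inverse letter. -/
def push (iv : ℕ → ℕ) (x : ℕ) : List ℕ → List ℕ
  | [] => [x]
  | y :: r => if y = iv x then r else x :: y :: r

/-- Free reduction. -/
def redW (iv : ℕ → ℕ) (L : List ℕ) : List ℕ := L.foldr (push iv) []

theorem ev_push {f : ℕ → Γ} {iv : ℕ → ℕ} {x : ℕ} (hx : f (iv x) = (f x)⁻¹) (L : List ℕ) :
    ev f (push iv x L) = f x * ev f L := by
  cases L with
  | nil => simp [push]
  | cons y r =>
    rw [push]
    split
    · next h => rw [ev_cons, h, hx, mul_inv_cancel_left]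
    · rw [ev_cons]

theorem ev_redW {f : ℕ → Γ} {iv : ℕ → ℕ} :
    ∀ {L : List ℕ}, (∀ x ∈ L, f (iv x) = (f x)⁻¹) → ev f (redW iv L) = ev f L := by
  intro L
  induction L with
  | nil => intro _; rfl
  | cons a t ih =>
    intro h
    rw [redW, List.foldr_cons, ev_push (h a List.mem_cons_self), ← redW,
      ih fun x hx => h x (List.mem_cons_of_mem _ hx), ev_cons]

theorem ev_reverse_inv {f : ℕ → Γ} {iv : ℕ → ℕ} :
    ∀ {L : List ℕ}, (∀ x ∈ L, f (iv x) = (f x)⁻¹) → ev f (L.map iv).reverse = (ev f L)⁻¹ := by
  intro L
  induction L with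
  | nil => simp
  | cons a t ih =>
    intro h
    rw [List.map_cons, List.reverse_cons, ev_append, ev_cons, ev_cons, ev_nil, mul_one, mul_inv_rev,
      ih fun x hx => h x (List.mem_cons_of_mem _ hx), h a List.mem_cons_self]

/-- The subgroup generated by the values of some words. -/
def gensClosure (f : ℕ → Γ) (gens : List (List ℕ)) : Subgroup Γ :=
  Subgroup.closure {a | ∃ w ∈ gens, ev f w = a}

theorem gensClosure_nil (f : ℕ → Γ) : gensClosure f [] = ⊥ := by
  rw [gensClosure, Subgroup.closure_eq_bot_iff]
  rintro a ⟨w, hw, -⟩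
  simp at hw

/-- The commutator word of a defect and a letter. -/
def commWord (iv : ℕ → ℕ) (g : ℕ) (r : List ℕ) : List ℕ := iv g :: ((r.map iv).reverse ++ g :: r)

/-- The relators of a certificate. -/
def relators (iv : ℕ → ℕ) (fixed pend : List (List ℕ)) (gens : List ℕ) : List (List ℕ) :=
  ((fixed ++ pend.flatMap fun r => gens.map fun g => commWord iv g r).map (redW iv)).filter
    fun w => !w.isEmpty

/-- A certificate traces the target from the data. -/
noncomputable def stepOK (C : Cert) (top nl : ℕ) (iv : ℕ → ℕ) (fixed pend : List (List ℕ))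
    (gens : List ℕ) (subs : List (List ℕ)) (target : List ℕ) : Bool :=
  C.nl == nl && ((List.range nl).all fun x => C.inv x == iv x && decide (iv x < nl)) &&
    (List.range C.words.length).map C.letters == relators iv fixed pend gens ++ subs &&
    C.nr == (relators iv fixed pend gens).length &&
    (fixed ++ pend).all (fun w => w.all fun x => decide (x < nl)) &&
    gens.all (fun x => decide (x < nl)) && target.all (fun x => decide (x < nl)) &&
    (redW iv target).all (fun x => decide (x < nl)) && C.walk top 0 (redW iv target) == 1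

theorem mem_of_stepOK {C : Cert} (hV : C.Valid) {top nl : ℕ} {iv : ℕ → ℕ}
    {fixed pend : List (List ℕ)} {gens : List ℕ} {subs : List (List ℕ)} {target : List ℕ}
    (h : stepOK C top nl iv fixed pend gens subs target = true) {f : ℕ → Γ}
    (hf : ∀ x < nl, f (iv x) = (f x)⁻¹) (hfix : ∀ w ∈ fixed, ev f w = 1)
    (hpend : ∀ w ∈ pend, ev f w ∈ Subgroup.center Γ) :
    ev f target ∈ gensClosure f subs := by
  simp only [stepOK, Bool.and_eq_true, beq_iff_eq, List.all_eq_true, decide_eq_true_eq,
    List.mem_range] at h
  obtain ⟨⟨⟨⟨⟨⟨⟨⟨hnl, hinv⟩, hW⟩, hnr⟩, hlt⟩, hg⟩, htl⟩, hrl⟩, hwalk⟩ := h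
  rw [← ev_redW fun x hx => hf x (htl x hx)]
  refine mem_of_walk hV f _ (fun x hx => ?_) hW ?_ ?_ (fun x hx => hnl ▸ hrl x hx) hwalk
  · rw [hnl] at hx ⊢
    rw [(hinv x hx).1]
    exact ⟨(hinv x hx).2, hf x hx⟩
  · intro w hw
    rw [hnr, List.take_left] at hw
    obtain ⟨hw, -⟩ := List.mem_filter.1 hw
    obtain ⟨v, hv, rfl⟩ := List.mem_map.1 hw
    rcases List.mem_append.1 hv with hv | hv
    · rw [ev_redW fun x hx => hf x (hlt v (List.mem_append_left _ hv) x hx)]
      exact hfix v hv
    · obtain ⟨r, hr, hv⟩ := List.mem_flatMap.1 hv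
      obtain ⟨g, hgm, rfl⟩ := List.mem_map.1 hv
      have hr' : ∀ x ∈ r, f (iv x) = (f x)⁻¹ :=
        fun x hx => hf x (hlt r (List.mem_append_right _ hr) x hx)
      have hg' : f (iv g) = (f g)⁻¹ := hf g (hg g hgm)
      have hiv : ∀ x < nl, f (iv (iv x)) = (f (iv x))⁻¹ := fun x hx => hf _ (hinv x hx).2
      rw [ev_redW (L := commWord iv g r)]
      · rw [commWord, ev_cons, ev_append, ev_cons, ev_reverse_inv hr', hg',
          Subgroup.mem_center_iff.1 (hpend r hr) (f g)]
        group
      · intro x hx
        simp only [commWord, List.mem_cons, List.mem_append, List.mem_reverse, List.mem_map] at hx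
        rcases hx with rfl | ⟨y, hy, rfl⟩ | rfl | hx
        · exact hiv g (hg g hgm)
        · exact hiv y (hlt r (List.mem_append_right _ hr) y hy)
        · exact hg'
        · exact hr' x hx
  · intro w hw
    rw [hnr, List.drop_left] at hw
    exact Subgroup.subset_closure ⟨w, hw, rfl⟩

/-- A sequence of certificates killing defects one after the other. -/
noncomputable def chainOK (nl : ℕ) (iv : ℕ → ℕ) (word : ℕ → List ℕ)
    (fixed : List ℕ → List (List ℕ)) (pend gens : List ℕ) (subs : List (List ℕ)) :
    List ℕ → List (Cert × ℕ × ℕ) → Bool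
  | _, [] => true
  | done, (C, top, i) :: rest =>
    stepOK C top nl iv (fixed done) ((pend.filter fun j => !done.contains j).map word) gens subs
        (word i) &&
      chainOK nl iv word fixed pend gens subs (done ++ [i]) rest

theorem one_of_chainOK {nl : ℕ} {iv : ℕ → ℕ} {word : ℕ → List ℕ}
    {fixed : List ℕ → List (List ℕ)} {pend gens : List ℕ} {subs : List (List ℕ)} {f : ℕ → Γ}
    (hf : ∀ x < nl, f (iv x) = (f x)⁻¹)
    (hfix : ∀ done : List ℕ, (∀ i ∈ done, ev f (word i) = 1) → ∀ w ∈ fixed done, ev f w = 1)
    (hcen : ∀ i ∈ pend, ev f (word i) ∈ Subgroup.center Γ) :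
    ∀ (steps : List (Cert × ℕ × ℕ)), (∀ p ∈ steps, p.1.Valid) →
      (∀ p ∈ steps, ev f (word p.2.2) ∈ gensClosure f subs → ev f (word p.2.2) = 1) →
      ∀ done : List ℕ, (∀ i ∈ done, ev f (word i) = 1) →
        chainOK nl iv word fixed pend gens subs done steps = true →
        ∀ i ∈ done ++ steps.map (fun p => p.2.2), ev f (word i) = 1 := by
  intro steps
  induction steps with
  | nil =>
    intro _ _ done hdone _ i hi
    exact hdone i (by simpa using hi)
  | cons p rest ih =>
    intro hv htriv done hdone hok i hi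
    obtain ⟨C, top, j⟩ := p
    rw [chainOK, Bool.and_eq_true] at hok
    have h1 : ev f (word j) = 1 := htriv (C, top, j) List.mem_cons_self
      (mem_of_stepOK (hv (C, top, j) List.mem_cons_self) hok.1 hf (hfix done hdone) fun w hw => by
        obtain ⟨k, hk, rfl⟩ := List.mem_map.1 hw
        exact hcen k (List.mem_filter.1 hk).1)
    refine ih (fun q hq => hv q (List.mem_cons_of_mem _ hq))
      (fun q hq => htriv q (List.mem_cons_of_mem _ hq)) (done ++ [j]) ?_ hok.2 i
      (by simpa [List.append_assoc] using hi)
    intro k hk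
    rcases List.mem_append.1 hk with hk | hk
    · exact hdone k hk
    · rw [List.mem_singleton.1 hk]; exact h1

end CfsgLib.Schur.Sporadic.ThCover
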