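import Mathlib

/-!
# Words for the multiplier of the Thompson group

Letters `2 i` and `2 i + 1` are the `i`-th generator (in the order `a, b, c, d, e, s, t, u`) and
its inverse.
-/

set_option maxRecDepth 100000

namespace CfsgLib.Schur.Sporadic.ThCover

/-- The printed relators. -/
def relWord : ℕ → List ℕ
  | 0 => [0, 0]
  | 1 => [2, 2]
  | 2 => [4, 4]
  | 3 => [6, 6]
  | 4 => [8, 8]
  | 5 => [0, 2, 0, 2, 0, 2]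
  | 6 => [0, 8, 0, 8]
  | 7 => [2, 4, 2, 4, 2, 4]
  | 8 => [2, 6, 2, 6]
  | 9 => [2, 8, 2, 8]
  | 10 => [0, 7, 5, 7, 5, 7, 5, 7, 5]
  | 11 => [4, 8, 4, 8]
  | 12 => [6, 8, 6, 8, 6, 8]
  | 13 => [2, 4, 6, 8, 2, 4, 6, 8, 2, 4, 6, 8, 2, 4, 6, 8, 2, 4, 6, 8, 2, 4, 6, 8, 2, 4, 6, 8, 2, 4, 6, 8]
  | 14 => [10, 10, 10, 10, 10, 10, 10]
  | 15 => [11, 1, 10, 0]
  | 16 => [11, 3, 10, 2]
  | 17 => [11, 5, 10, 4]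
  | 18 => [10, 6, 10, 6]
  | 19 => [9, 11, 8, 10, 11, 11, 11, 9, 10, 10, 10]
  | 20 => [12, 12, 12]
  | 21 => [13, 1, 12, 0]
  | 22 => [13, 3, 12, 2]
  | 23 => [13, 5, 12, 4]
  | 24 => [13, 7, 12, 6]
  | 25 => [13, 9, 12, 8]
  | 26 => [13, 10, 12, 11, 11]
  | 27 => [14, 14, 5, 1]
  | 28 => [15, 1, 14, 0]
  | 29 => [15, 5, 14, 4]
  | 30 => [15, 9, 14, 8]
  | 31 => [6, 8, 15, 6, 14, 6, 8, 15, 6, 14]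
  | 32 => [15, 3, 5, 1, 2, 14, 3, 0, 4, 2, 9]
  | 33 => [7, 15, 6, 3, 5, 1, 2, 7, 14, 6, 3, 0, 4, 2, 5, 9, 7, 15, 6, 3, 5, 1, 2, 9, 15]
  | 34 => [15, 12, 14, 12]
  | 35 => [9, 11, 11, 15, 10, 10, 8, 11, 11, 14, 10, 10]
  | 36 => [0, 4, 11, 15, 11, 15, 11, 15]
  | 37 => [0, 4, 11, 15, 10, 14, 11, 15, 10, 14, 11, 15, 10, 14, 11, 15, 10, 14]
  | 38 => [6, 11, 11, 14, 10, 10, 6, 11, 11, 14, 10, 10, 6, 11, 11, 14, 10, 10, 6, 11, 11, 14, 10, 10, 11, 11, 9, 7, 5, 6, 8, 10, 10, 10, 9, 7, 5, 6, 8, 11, 7, 5, 6, 5, 1]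
  | _ => []

/-- The eight words whose values are normalised to one. -/
def normWord : ℕ → List ℕ
  | 0 => [1, 3, 0, 2, 0, 3]
  | 1 => [3, 5, 2, 4, 2, 5]
  | 2 => [9, 7, 8, 6, 8, 7]
  | 3 => [0, 0, 0, 0, 0, 7, 5, 7, 5, 7, 5, 7, 5]
  | 4 => [10, 10, 10, 10, 10, 10, 10, 6, 6, 7, 11, 7, 11, 6, 6, 7, 11, 7, 11, 6, 6, 7, 11, 7, 11]
  | 5 => [9, 11, 8, 10, 11, 11, 11, 9, 10, 10, 10]
  | 6 => [12, 12, 12, 13, 15, 13, 14]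
  | 7 => [0, 4, 11, 15, 11, 15, 11, 15, 14, 14, 5, 1]
  | _ => []

/-- Exponent vectors dual to the normalised words. -/
def scaleVec : ℕ → List ℤ
  | 0 => [-4, -5, -5, 0, 0, 0, 0, 0]
  | 1 => [-4, -4, -5, 0, 0, 0, 0, 0]
  | 2 => [-4, -4, -4, -1, 0, 0, 0, 0]
  | 3 => [1, 1, 1, 0, 0, 0, 0, 0]
  | 4 => [0, 0, 0, 0, 0, 1, 0, -3]
  | 5 => [-4, -4, -4, -1, -1, 0, 0, 0]
  | 6 => [0, 0, 0, 0, 0, 0, 1, 0]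
  | 7 => [0, 0, 0, 0, 0, 0, 0, -1]
  | _ => []

end CfsgLib.Schur.Sporadic.ThCover
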