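import Cfsg.Agent.Lib.Schur.Basic
import Cfsg.Agent.Lib.Schur.Th.Kill
import Cfsg.Agent.Lib.Schur.Th.Words
import Cfsg.Agent.Lib.Schur.Th.CertsA
import Cfsg.Agent.Lib.Schur.Th.CertsB
import Cfsg.Agent.Lib.Schur.Th.CertSq
import Cfsg.Agent.Lib.Schur.Th.CertLast
import Cfsg.Prelude.Def_Spor_Th

/-!
# Central extensions of the presented Thompson group split

Given that the subgroup of the first three groups of relators is mapped injectively, suitably
scaled lifts of the generators satisfy all printed relators.
-/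

namespace CfsgLib.Schur.Sporadic.ThCover

open CfsgLib.Sporadic.CosetCert CfsgLib.Sporadic.ONTriple Cfsg.Spor
open scoped commutatorElement

/-- The inverse letter. -/
def flip (x : ℕ) : ℕ := if x % 2 = 0 then x + 1 else x - 1

/-- The generators in order. -/
def genAt : ℕ → Th.Gen
  | 0 => .a | 1 => .b | 2 => .c | 3 => .d | 4 => .e | 5 => .s | 6 => .t | _ => .u

/-- The position of a generator. -/
def idxOf : Th.Gen → ℕ
  | .a => 0 | .b => 1 | .c => 2 | .d => 3 | .e => 4 | .s => 5 | .t => 6 | .u => 7

/-- The letters in the free group. -/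
def freeLetter (x : ℕ) : FreeGroup Th.Gen :=
  if x % 2 = 0 then FreeGroup.of (genAt (x / 2)) else (FreeGroup.of (genAt (x / 2)))⁻¹

/-- The letters in the presented group. -/
noncomputable def thLetter (x : ℕ) : Th := PresentedGroup.mk _ (freeLetter x)

theorem relWord_free : ∀ i < 39, ev freeLetter (relWord i) = Th.extra.getD i 1 := by decide +kernel

theorem th_rel {i : ℕ} (hi : i < 39) : ev thLetter (relWord i) = 1 := by
  show ev (fun x => PresentedGroup.mk _ (freeLetter x)) (relWord i) = 1
  rw [← mk_ev, relWord_free i hi]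
  refine PresentedGroup.one_of_mem (Or.inr ?_)
  have hlen : Th.extra.length = 39 := rfl
  show Th.extra.getD i 1 ∈ Th.extra
  rw [List.getD_eq_getElem _ _ (hlen ▸ hi)]
  exact List.getElem_mem _

theorem norm_free :
    ev freeLetter (normWord 3) = ev freeLetter (relWord 0) ^ 2 * ev freeLetter (relWord 10) ∧
    ev freeLetter (normWord 4) = ev freeLetter (relWord 14) *
      (ev freeLetter (relWord 3) * (ev freeLetter (relWord 18))⁻¹) ^ 3 ∧
    ev freeLetter (normWord 5) = ev freeLetter (relWord 19) ∧
    ev freeLetter (normWord 6) = ev freeLetter (relWord 20) * (ev freeLetter (relWord 34))⁻¹ ∧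
    ev freeLetter (normWord 7) = ev freeLetter (relWord 36) * ev freeLetter (relWord 27) := by
  decide +kernel

theorem braid {G : Type*} [Group G] {x y : G} (hx : x ^ 2 = 1) (hy : y ^ 2 = 1)
    (h : (x * y) ^ 3 = 1) : (y * x)⁻¹ * x * (y * x) * y⁻¹ = 1 := by
  have ix : x⁻¹ = x := inv_eq_of_mul_eq_one_right (by rw [← pow_two]; exact hx)
  have iy : y⁻¹ = y := inv_eq_of_mul_eq_one_right (by rw [← pow_two]; exact hy)
  rw [mul_inv_rev, ix, iy, ← h]
  simp only [pow_succ, pow_zero, one_mul, mul_assoc]

theorem th_norm : ∀ i < 8, ev thLetter (normWord i) = 1 := by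
  intro i hi
  have hmk : ∀ L, ev thLetter L = PresentedGroup.mk _ (ev freeLetter L) := fun L => (mk_ev _ _ L).symm
  have r : ∀ i < 39, PresentedGroup.mk (coxRelators Th.edges ∪ {r | r ∈ Th.extra})
      (ev freeLetter (relWord i)) = 1 := fun i hi => by rw [← hmk]; exact th_rel hi
  obtain ⟨e3, e4, e5, e6, e7⟩ := norm_free
  have sq : ∀ i < 5, (PresentedGroup.of (genAt i) : Th) ^ 2 = 1 := by
    intro i hi
    have h := r i (by omega)
    have hw : ev freeLetter (relWord i) = FreeGroup.of (genAt i) ^ 2 := by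
      interval_cases i <;> decide +kernel
    rwa [hw, map_pow] at h
  have cube : ∀ x y j, j < 39 → ev freeLetter (relWord j) =
      (FreeGroup.of x * FreeGroup.of y) ^ 3 →
      ((PresentedGroup.of x : Th) * PresentedGroup.of y) ^ 3 = 1 := by
    intro x y j hj hw
    have h := r j hj
    rwa [hw, map_pow, map_mul] at h
  have swap : ∀ {x y : Th}, (x * y) ^ 3 = 1 → (y * x) ^ 3 = 1 := by
    intro x y h
    have e : (y * x) ^ 3 = x⁻¹ * (x * y) ^ 3 * x := by
      simp only [pow_succ, pow_zero, one_mul, mul_assoc, inv_mul_cancel_left]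
    rw [e, h, mul_one, inv_mul_cancel]
  rw [hmk]
  interval_cases i
  · have hw : ev freeLetter (normWord 0) = (FreeGroup.of .b * FreeGroup.of .a)⁻¹ * FreeGroup.of .a *
        (FreeGroup.of .b * FreeGroup.of .a) * (FreeGroup.of .b)⁻¹ := by decide +kernel
    rw [hw, map_mul, map_mul, map_mul, map_inv, map_inv, map_mul]
    exact braid (sq 0 (by norm_num)) (sq 1 (by norm_num)) (cube .a .b 5 (by norm_num) (by decide +kernel))
  · have hw : ev freeLetter (normWord 1) = (FreeGroup.of .c * FreeGroup.of .b)⁻¹ * FreeGroup.of .b *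
        (FreeGroup.of .c * FreeGroup.of .b) * (FreeGroup.of .c)⁻¹ := by decide +kernel
    rw [hw, map_mul, map_mul, map_mul, map_inv, map_inv, map_mul]
    exact braid (sq 1 (by norm_num)) (sq 2 (by norm_num)) (cube .b .c 7 (by norm_num) (by decide +kernel))
  · have hw : ev freeLetter (normWord 2) = (FreeGroup.of .d * FreeGroup.of .e)⁻¹ * FreeGroup.of .e *
        (FreeGroup.of .d * FreeGroup.of .e) * (FreeGroup.of .d)⁻¹ := by decide +kernel
    rw [hw, map_mul, map_mul, map_mul, map_inv, map_inv, map_mul]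
    exact braid (sq 4 (by norm_num)) (sq 3 (by norm_num))
      (swap (cube .d .e 12 (by norm_num) (by decide +kernel)))
  · rw [e3, map_mul, map_pow, r 0 (by norm_num), r 10 (by norm_num), one_pow, one_mul]
  · rw [e4, map_mul, map_pow, map_mul, map_inv, r 14 (by norm_num), r 3 (by norm_num),
      r 18 (by norm_num)]
    simp
  · rw [e5]; exact r 19 (by norm_num)
  · rw [e6, map_mul, map_inv, r 20 (by norm_num), r 34 (by norm_num)]; simp
  · rw [e7, map_mul, r 36 (by norm_num), r 27 (by norm_num), one_mul]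

variable {Γ : Type*} [Group Γ] {σ : Γ →* Th}

/-- Lifts of the sixteen letters. -/
structure Lifts (σ : Γ →* Th) (f : ℕ → Γ) : Prop where
  inv : ∀ x < 16, f (flip x) = (f x)⁻¹
  img : ∀ x < 16, σ (f x) = thLetter x

theorem flip_spec : ∀ x < 16, flip x < 16 ∧ flip x / 2 = x / 2 ∧
    (x % 2 = 0 ∧ flip x % 2 = 1 ∨ x % 2 = 1 ∧ flip x % 2 = 0) := by decide

theorem exists_lifts (hσ : Function.Surjective σ) : ∃ f, Lifts σ f := by
  choose g hg using hσ
  refine ⟨fun x => if x % 2 = 0 then g (PresentedGroup.of (genAt (x / 2)))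
    else (g (PresentedGroup.of (genAt (x / 2))))⁻¹, ⟨fun x hx => ?_, fun x _ => ?_⟩⟩
  · obtain ⟨-, h2, ⟨h, h'⟩ | ⟨h, h'⟩⟩ := flip_spec x hx <;> simp [h, h', h2]
  · rcases Nat.mod_two_eq_zero_or_one x with h | h <;>
      simp [h, thLetter, freeLetter, hg, PresentedGroup.of]

theorem Lifts.map_ev {f : ℕ → Γ} (hf : Lifts σ f) {L : List ℕ} (hL : ∀ x ∈ L, x < 16) :
    σ (ev f L) = ev thLetter L := by
  rw [CfsgLib.Sporadic.ONTriple.map_ev]
  exact ev_congr fun x hx => hf.img x (hL x hx)

theorem relWord_lt : ∀ i < 39, ∀ x ∈ relWord i, x < 16 := by decide +kernel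

theorem normWord_lt : ∀ i < 8, ∀ x ∈ normWord i, x < 16 := by decide +kernel

/-- The exponent of a scaling at a letter. -/
def expAt (n x : ℕ) : ℤ :=
  if x % 2 = 0 then (scaleVec n).getD (x / 2) 0 else -(scaleVec n).getD (x / 2) 0

theorem ev_scaled {k : Γ} (hk : k ∈ Subgroup.center Γ) (f : ℕ → Γ) (e : ℕ → ℤ) (L : List ℕ) :
    ev (fun x => f x * k ^ e x) L = ev f L * k ^ (L.map e).sum := by
  induction L with
  | nil => simp
  | cons a t ih =>
    have hc : ∀ (n : ℤ) (g : Γ), g * k ^ n = k ^ n * g := fun n g =>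
      Subgroup.mem_center_iff.1 (zpow_mem hk n) g
    rw [ev_cons, ev_cons, ih, List.map_cons, List.sum_cons, zpow_add]
    rw [mul_assoc (f a), ← mul_assoc (k ^ e a), ← hc (e a) (ev f t)]
    simp only [mul_assoc]

theorem scale_sum : ∀ i < 8, ∀ n < 8,
    ((normWord i).map (expAt n)).sum = if i = n then 1 else 0 := by decide +kernel

theorem exists_normalised (hσ : Function.Surjective σ) (hcen : σ.ker ≤ Subgroup.center Γ) :
    ∀ n ≤ 8, ∃ f, Lifts σ f ∧ ∀ i < n, ev f (normWord i) = 1 := by
  intro n
  induction n with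
  | zero =>
    intro _
    obtain ⟨f, hf⟩ := exists_lifts hσ
    exact ⟨f, hf, fun i hi => absurd hi (Nat.not_lt_zero i)⟩
  | succ n ih =>
    intro hn
    obtain ⟨f, hf, hi⟩ := ih (by omega)
    obtain ⟨k, hk⟩ : ∃ k, k = (ev f (normWord n))⁻¹ := ⟨_, rfl⟩
    have hkk : k ∈ σ.ker := by
      rw [hk, inv_mem_iff, MonoidHom.mem_ker, hf.map_ev (normWord_lt n (by omega)),
        th_norm n (by omega)]
    refine ⟨fun x => f x * k ^ expAt n x, ⟨fun x hx => ?_, fun x hx => ?_⟩, fun i hi' => ?_⟩
    · obtain ⟨-, h2, hpar⟩ := flip_spec x hx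
      have he : expAt n (flip x) = -expAt n x := by
        rcases hpar with ⟨h, h'⟩ | ⟨h, h'⟩ <;> simp [expAt, h, h', h2]
      rw [he, hf.inv x hx, mul_inv_rev, zpow_neg]
      exact Subgroup.mem_center_iff.1 (inv_mem (zpow_mem (hcen hkk) _)) _
    · have hz : σ k = 1 := MonoidHom.mem_ker.1 hkk
      rw [map_mul, map_zpow, hz, one_zpow, mul_one]
      exact hf.img x hx
    · rw [ev_scaled (hcen hkk), scale_sum i (by omega) n (by omega)]
      rcases Nat.lt_succ_iff_lt_or_eq.1 hi' with h | h
      · rw [if_neg (by omega), zpow_zero, mul_one, hi i h]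
      · subst h
        rw [if_pos rfl, zpow_one, hk, mul_inv_cancel]

/-- Inverse letters of the first stage. -/
def ivOne : ℕ → ℕ := flip

/-- Inverse letters once the involutions square to one. -/
def ivTwo (x : ℕ) : ℕ := [0, 1, 2, 3, 4, 6, 5, 8, 7, 10, 9].getD x x

/-- The letter of the second stage of a letter. -/
def collapse (x : ℕ) : ℕ := [0, 0, 1, 1, 2, 2, 3, 3, 4, 4, 5, 6, 7, 8, 9, 10].getD x x

/-- A letter over a letter of the second stage. -/
def repTwo (x : ℕ) : ℕ := [0, 2, 4, 6, 8, 10, 11, 12, 13, 14, 15].getD x x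

/-- The relators of the second stage. -/
def wordTwo (i : ℕ) : List ℕ := (relWord i).map collapse

/-- Words of value one in the first stage. -/
def fixedOne (done : List ℕ) : List (List ℕ) :=
  (List.range 6).map normWord ++ done.map relWord

/-- The relators already killed when the second stage starts. -/
def oldRels : List ℕ := [5, 6, 7, 8, 9, 10, 11, 12, 13, 14, 15, 16, 17, 18, 19, 0, 1, 2, 3, 4]

/-- Words of value one in the second stage. -/
def fixedTwo (done : List ℕ) : List (List ℕ) :=
  (oldRels ++ done).map wordTwo ++ [(normWord 6).map collapse, (normWord 7).map collapse]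

/-- The certificates of the first stage. -/
noncomputable def stepsOne : List (Cert × ℕ × ℕ) := [
    (cert15, cert15Top, 15),
    (cert16, cert16Top, 16),
    (cert17, cert17Top, 17),
    (cert14, cert14Top, 14),
    (cert0, cert0Top, 0),
    (cert1, cert1Top, 1),
    (cert2, cert2Top, 2),
    (cert3, cert3Top, 3),
    (cert4, cert4Top, 4),
    (cert6, cert6Top, 6),
    (cert8, cert8Top, 8),
    (cert9, cert9Top, 9),
    (cert11, cert11Top, 11),
    (cert18, cert18Top, 18),
    (cert5, cert5Top, 5),
    (cert7, cert7Top, 7),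
    (cert12, cert12Top, 12),
    (cert10, cert10Top, 10),
    (cert13, cert13Top, 13)]

/-- The certificates for the relators with `t`. -/
noncomputable def stepsT : List (Cert × ℕ × ℕ) := [
    (cert20, cert20Top, 20),
    (cert21, cert21Top, 21),
    (cert22, cert22Top, 22),
    (cert23, cert23Top, 23),
    (cert24, cert24Top, 24),
    (cert25, cert25Top, 25),
    (cert34, cert34Top, 34),
    (cert26, cert26Top, 26)]

/-- The certificates for the relators with `u`. -/
noncomputable def stepsU : List (Cert × ℕ × ℕ) := [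
    (cert28, cert28Top, 28),
    (cert29, cert29Top, 29),
    (cert30, cert30Top, 30),
    (cert31, cert31Top, 31),
    (cert32, cert32Top, 32),
    (cert35, cert35Top, 35),
    (cert27, cert27Top, 27),
    (cert36, cert36Top, 36),
    (cert37, cert37Top, 37),
    (cert33, cert33Top, 33),
    (cert38, cert38Top, 38)]

/-- The defects of the first stage. -/
def pendOne : List ℕ := [0, 1, 2, 3, 4, 5, 6, 7, 8, 9, 10, 11, 12, 13, 14, 15, 16, 17, 18]

/-- The defects with `t`. -/
def pendT : List ℕ := [20, 21, 22, 23, 24, 25, 26, 34]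

/-- The defects with `u`. -/
def pendU : List ℕ := [27, 28, 29, 30, 31, 32, 33, 35, 36, 37, 38]

/-- The subgroup words of the last certificates. -/
def subWords : List (List ℕ) := [[0], [1], [2], [3], [4], [5], [7]]

theorem chainOne_ok : chainOK 12 ivOne relWord fixedOne pendOne [0, 2, 4, 6, 8, 10] [] [] stepsOne = true := by
  decide +kernel

theorem chainT_ok :
    chainOK 11 ivTwo wordTwo fixedTwo pendT [0, 1, 2, 3, 4, 5, 7, 9] [] [] stepsT = true := by
  decide +kernel

theorem chainU_ok :
    chainOK 11 ivTwo wordTwo fixedTwo pendU [0, 1, 2, 3, 4, 5, 7, 9] subWords [20, 21, 22, 23, 24, 25, 34, 26] stepsU = true := by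
  decide +kernel

theorem stepsOne_valid : ∀ p ∈ stepsOne, p.1.Valid := by
  intro p hp
  simp only [stepsOne, List.mem_cons, List.not_mem_nil, or_false] at hp
  repeat' rcases hp with rfl | hp
  all_goals first
    | exact cert0_valid
    | exact cert1_valid
    | exact cert2_valid
    | exact cert3_valid
    | exact cert4_valid
    | exact cert5_valid
    | exact cert6_valid
    | exact cert7_valid
    | exact cert8_valid
    | exact cert9_valid
    | exact cert10_valid
    | exact cert11_valid
    | exact cert12_valid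
    | exact cert13_valid
    | exact cert14_valid
    | exact cert15_valid
    | exact cert16_valid
    | exact cert17_valid
    | exact cert18_valid

theorem stepsT_valid : ∀ p ∈ stepsT, p.1.Valid := by
  intro p hp
  simp only [stepsT, List.mem_cons, List.not_mem_nil, or_false] at hp
  repeat' rcases hp with rfl | hp
  all_goals first
    | exact cert20_valid
    | exact cert21_valid
    | exact cert22_valid
    | exact cert23_valid
    | exact cert24_valid
    | exact cert25_valid
    | exact cert26_valid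
    | exact cert34_valid

theorem stepsU_valid : ∀ p ∈ stepsU, p.1.Valid := by
  intro p hp
  simp only [stepsU, List.mem_cons, List.not_mem_nil, or_false] at hp
  repeat' rcases hp with rfl | hp
  all_goals first
    | exact cert27_valid
    | exact cert28_valid
    | exact cert29_valid
    | exact cert30_valid
    | exact cert31_valid
    | exact cert32_valid
    | exact cert33_valid
    | exact cert35_valid
    | exact cert36_valid
    | exact cert37_valid
    | exact cert38_valid

/-- Words for the generators of the subgroup of the first three groups of relators. -/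
def hGens : List (List ℕ) := [[0], [2], [4], [6], [8], [10], [12]]

theorem ker_eq_bot_of (hσ : Cfsg.IsStemExtension σ)
    (hH : ∀ v : ℕ → Γ, Lifts σ v → (∀ i < 27, ev v (relWord i) = 1) →
      ∀ g ∈ gensClosure v hGens, σ g = 1 → g = 1) :
    σ.ker = ⊥ := by
  obtain ⟨hsurj, hcen, hcom⟩ := hσ
  obtain ⟨f, hf, hnorm⟩ := exists_normalised hsurj hcen 8 le_rfl
  have hker : ∀ i < 39, σ (ev f (relWord i)) = 1 := fun i hi => by
    rw [hf.map_ev (relWord_lt i hi), th_rel hi]
  have hctr : ∀ i < 39, ev f (relWord i) ∈ Subgroup.center Γ := fun i hi =>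
    hcen (MonoidHom.mem_ker.2 (hker i hi))
  have r19 : ev f (relWord 19) = 1 := by
    have e : normWord 5 = relWord 19 := by decide +kernel
    rw [← e]
    exact hnorm 5 (by norm_num)
  have one : ∀ i < 20, ev f (relWord i) = 1 := by
    have h := one_of_chainOK (f := f) (word := relWord) (fixed := fixedOne)
      (fun x hx => hf.inv x (by omega))
      (fun done hd w hw => by
        rcases List.mem_append.1 hw with hw | hw
        · obtain ⟨i, hi, rfl⟩ := List.mem_map.1 hw
          exact hnorm i (by have := List.mem_range.1 hi; omega)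
        · obtain ⟨i, hi, rfl⟩ := List.mem_map.1 hw
          exact hd i hi)
      (fun i hi => hctr i ((by decide : ∀ i ∈ pendOne, i < 39) i hi))
      stepsOne stepsOne_valid
      (fun p _ hp => by rw [gensClosure_nil, Subgroup.mem_bot] at hp; exact hp)
      [] (by simp) chainOne_ok
    intro i hi
    rcases eq_or_ne i 19 with rfl | hne
    · exact r19
    · refine h i ?_
      have e : ([] ++ stepsOne.map fun p => p.2.2) = ([15, 16, 17, 14, 0, 1, 2, 3, 4, 6, 8, 9, 11, 18, 5, 7, 12, 10, 13] : List ℕ) := rfl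
      rw [e]
      interval_cases i <;> first | omega | decide
  have invol : ∀ j < 5, f (2 * j + 1) = f (2 * j) := by
    intro j hj
    have h := one j (by omega)
    have e : relWord j = [2 * j, 2 * j] := by interval_cases j <;> rfl
    rw [e, ev_cons, ev_cons, ev_nil, mul_one] at h
    have h2 := hf.inv (2 * j) (by omega)
    rw [flip, if_pos (by omega), inv_eq_of_mul_eq_one_right h] at h2
    exact h2
  have hrep : ∀ x < 16, f (repTwo (collapse x)) = f x := by
    intro x hx
    interval_cases x <;> first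
      | rfl
      | exact (invol 0 (by norm_num)).symm
      | exact (invol 1 (by norm_num)).symm
      | exact (invol 2 (by norm_num)).symm
      | exact (invol 3 (by norm_num)).symm
      | exact (invol 4 (by norm_num)).symm
  obtain ⟨g, hg⟩ : ∃ g : ℕ → Γ, g = fun x => f (repTwo x) := ⟨_, rfl⟩
  have hgev : ∀ L : List ℕ, (∀ x ∈ L, x < 16) → ev g (L.map collapse) = ev f L := by
    intro L hL
    rw [ev_map, hg]
    exact ev_congr fun x hx => hrep x (hL x hx)
  have ginv : ∀ x < 11, g (ivTwo x) = (g x)⁻¹ := by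
    intro x hx
    subst hg
    interval_cases x
    · show f 0 = (f 0)⁻¹
      rw [← hf.inv 0 (by norm_num)]; exact (invol 0 (by norm_num)).symm
    · show f 2 = (f 2)⁻¹
      rw [← hf.inv 2 (by norm_num)]; exact (invol 1 (by norm_num)).symm
    · show f 4 = (f 4)⁻¹
      rw [← hf.inv 4 (by norm_num)]; exact (invol 2 (by norm_num)).symm
    · show f 6 = (f 6)⁻¹
      rw [← hf.inv 6 (by norm_num)]; exact (invol 3 (by norm_num)).symm
    · show f 8 = (f 8)⁻¹
      rw [← hf.inv 8 (by norm_num)]; exact (invol 4 (by norm_num)).symm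
    · exact hf.inv 10 (by norm_num)
    · exact hf.inv 11 (by norm_num)
    · exact hf.inv 12 (by norm_num)
    · exact hf.inv 13 (by norm_num)
    · exact hf.inv 14 (by norm_num)
    · exact hf.inv 15 (by norm_num)
  have hword : ∀ i < 39, ev g (wordTwo i) = ev f (relWord i) := fun i hi =>
    hgev _ (relWord_lt i hi)
  have hfix : ∀ done : List ℕ, (∀ i ∈ done, ev g (wordTwo i) = 1) →
      ∀ w ∈ fixedTwo done, ev g w = 1 := by
    intro done hd w hw
    rcases List.mem_append.1 hw with hw | hw
    · obtain ⟨i, hi, rfl⟩ := List.mem_map.1 hw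
      rcases List.mem_append.1 hi with hi | hi
      · have hlt : i < 20 := (by decide : ∀ i ∈ oldRels, i < 20) i hi
        rw [hword i (by omega), one i hlt]
      · exact hd i hi
    · simp only [List.mem_cons, List.not_mem_nil, or_false] at hw
      rcases hw with rfl | rfl
      · rw [hgev _ (normWord_lt 6 (by norm_num)), hnorm 6 (by norm_num)]
      · rw [hgev _ (normWord_lt 7 (by norm_num)), hnorm 7 (by norm_num)]
  have hT := one_of_chainOK (f := g) (word := wordTwo) (fixed := fixedTwo) ginv hfix
    (fun i hi => by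
      have hlt : i < 39 := (by decide : ∀ i ∈ pendT, i < 39) i hi
      rw [hword i hlt]; exact hctr i hlt)
    stepsT stepsT_valid
    (fun p _ hp => by rw [gensClosure_nil, Subgroup.mem_bot] at hp; exact hp)
    [] (by simp) chainT_ok
  have eT : ([] ++ stepsT.map fun p => p.2.2) = ([20, 21, 22, 23, 24, 25, 34, 26] : List ℕ) := rfl
  rw [eT] at hT
  have h27 : ∀ i < 27, ev f (relWord i) = 1 := by
    intro i hi
    by_cases h : i < 20
    · exact one i h
    · rw [← hword i (by omega)]
      exact hT i (by interval_cases i <;> first | omega | decide)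
  have hsub : gensClosure g subWords ≤ gensClosure f hGens := by
    refine (Subgroup.closure_le _).2 ?_
    rintro a ⟨w, hw, rfl⟩
    have h : ∀ w ∈ subWords, w.map repTwo ∈ hGens := by decide
    refine Subgroup.subset_closure ⟨_, h w hw, ?_⟩
    rw [ev_map, hg]
  have hU := one_of_chainOK (f := g) (word := wordTwo) (fixed := fixedTwo) ginv hfix
    (fun i hi => by
      have hlt : i < 39 := (by decide : ∀ i ∈ pendU, i < 39) i hi
      rw [hword i hlt]; exact hctr i hlt)
    stepsU stepsU_valid
    (fun p hp hm => by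
      have hlt : p.2.2 < 39 := by
        have hm' : p.2.2 ∈ stepsU.map (fun p => p.2.2) := List.mem_map_of_mem hp
        exact (by decide : ∀ i ∈ ([28, 29, 30, 31, 32, 35, 27, 36, 37, 33, 38] : List ℕ), i < 39) _ hm'
      rw [hword _ hlt] at hm ⊢
      exact hH f hf h27 _ (hsub hm) (hker _ hlt))
    [20, 21, 22, 23, 24, 25, 34, 26] hT chainU_ok
  have hall : ∀ i < 39, ev f (relWord i) = 1 := by
    intro i hi
    by_cases h : i < 27
    · exact h27 i h
    · rw [← hword i hi]
      have e : ([20, 21, 22, 23, 24, 25, 34, 26] ++ stepsU.map fun p => p.2.2) = ([20, 21, 22, 23, 24, 25, 34, 26, 28, 29, 30, 31, 32, 35, 27, 36, 37, 33, 38] : List ℕ) := rfl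
      refine hU i ?_
      rw [e]
      interval_cases i <;> first | omega | decide
  let v : Th.Gen → Γ := fun g => f (2 * idxOf g)
  have hv : ∀ x < 16, FreeGroup.lift v (freeLetter x) = f x := by
    intro x hx
    have hi : idxOf (genAt (x / 2)) = x / 2 := by interval_cases x <;> rfl
    rcases Nat.mod_two_eq_zero_or_one x with h | h
    · rw [freeLetter, if_pos h, FreeGroup.lift_apply_of]
      show f (2 * idxOf (genAt (x / 2))) = f x
      rw [hi, show 2 * (x / 2) = x by omega]
    · rw [freeLetter, if_neg (by omega), map_inv, FreeGroup.lift_apply_of]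
      show (f (2 * idxOf (genAt (x / 2))))⁻¹ = f x
      rw [hi, ← hf.inv (2 * (x / 2)) (by omega), flip, if_pos (by omega),
        show 2 * (x / 2) + 1 = x by omega]
  have hrel : ∀ r ∈ coxRelators Th.edges ∪ {r | r ∈ Th.extra}, FreeGroup.lift v r = 1 := by
    rintro r (⟨a, ha, -⟩ | hr)
    · exact absurd ha (by simp [coxNodes, Th.edges])
    obtain ⟨i, hi, rfl⟩ := List.mem_iff_getElem.1 hr
    have hi' : i < 39 := hi
    rw [← List.getD_eq_getElem _ 1 hi, ← relWord_free i hi', CfsgLib.Sporadic.ONTriple.map_ev,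
      ev_congr (fun x hx => hv x (relWord_lt i hi' x hx))]
    exact hall i hi'
  obtain ⟨s, hs⟩ : ∃ s : Th →* Γ, s = PresentedGroup.toGroup hrel := ⟨_, rfl⟩
  have hsσ : σ.comp s = MonoidHom.id Th := by
    refine PresentedGroup.ext fun x => ?_
    rw [hs, MonoidHom.comp_apply, PresentedGroup.toGroup.of]
    show σ (f (2 * idxOf x)) = _
    rw [hf.img _ (by cases x <;> decide)]
    cases x <;> rfl
  have hdec : ∀ g : Γ, ∃ a, ∃ c ∈ σ.ker, g = s a * c := fun g => ⟨σ g, (s (σ g))⁻¹ * g, by
    rw [MonoidHom.mem_ker, map_mul, map_inv, ← MonoidHom.comp_apply σ s, hsσ, MonoidHom.id_apply,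
      inv_mul_cancel], (mul_inv_cancel_left _ g).symm⟩
  have hle : commutator Γ ≤ s.range := by
    rw [commutator_def, Subgroup.commutator_le]
    intro x _ y _
    obtain ⟨a, c, hc, rfl⟩ := hdec x
    obtain ⟨b, d, hd, rfl⟩ := hdec y
    refine ⟨⁅a, b⁆, ?_⟩
    rw [map_commutatorElement, commutatorElement_def, commutatorElement_def, mul_inv_rev, mul_inv_rev]
    have c1 := Subgroup.mem_center_iff.1 (hcen hc)
    have d1 := Subgroup.mem_center_iff.1 (hcen hd)
    calc s a * s b * (s a)⁻¹ * (s b)⁻¹ = s a * s b * (s a)⁻¹ * (d * d⁻¹) * (s b)⁻¹ := by group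
      _ = s a * s b * ((s a)⁻¹ * d) * d⁻¹ * (s b)⁻¹ := by group
      _ = s a * s b * (d * (s a)⁻¹) * d⁻¹ * (s b)⁻¹ := by rw [d1 (s a)⁻¹]
      _ = s a * (s b * d) * (c * c⁻¹) * (s a)⁻¹ * d⁻¹ * (s b)⁻¹ := by group
      _ = s a * (c * (s b * d)) * c⁻¹ * (s a)⁻¹ * d⁻¹ * (s b)⁻¹ := by rw [← c1 (s b * d)]; group
      _ = s a * c * (s b * d) * (c⁻¹ * (s a)⁻¹) * (d⁻¹ * (s b)⁻¹) := by group
  rw [eq_bot_iff]
  intro g hg'
  obtain ⟨a, rfl⟩ := hle (hcom hg')
  have : a = 1 := by
    rw [← MonoidHom.id_apply (M := Th) a, ← hsσ]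
    exact hg'
  rw [Subgroup.mem_bot, this, map_one]

end CfsgLib.Schur.Sporadic.ThCover
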